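/-
Isomorphic subgroups from a common table of left multiplications by generators.
-/
import Mathlib

set_option autoImplicit false

namespace Cfsg.Agent.Lib.LAEven56.SylowIso

variable {G₁ G₂ M₁ M₂ : Type*} [Group G₁] [Group G₂] [Finite G₁] [Finite G₂]
  {m N : ℕ}

/-- A table with `i₀` for the identity, `σ` the action of the generators, `par` and `lbl` a tree. -/
structure Tree (m N : ℕ) (i₀ : Fin N) (σ : Fin m → Fin N → Fin N) (par : Fin N → Fin N)
    (lbl : Fin N → Fin m) : Prop where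
  spec : ∀ i, i ≠ i₀ → par i < i ∧ σ (lbl i) (par i) = i

/-- A realisation of the table in a group, seen through an injective map `ev`. -/
structure Real (g : Fin m → G₁) (ev : G₁ → M₁) (op : M₁ → M₁ → M₁) (y : Fin N → M₁) (i₀ : Fin N)
    (σ : Fin m → Fin N → Fin N) : Prop where
  ev_inj : Function.Injective ev
  ev_mul : ∀ a b, ev (a * b) = op (ev a) (ev b)
  one : y i₀ = ev 1
  step : ∀ k i, op (ev (g k)) (y i) = y (σ k i)
  inj : Function.Injective y

theorem Real.exists_lift {g : Fin m → G₁} {ev : G₁ → M₁} {op : M₁ → M₁ → M₁} {y : Fin N → M₁}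
    {i₀ : Fin N} {σ : Fin m → Fin N → Fin N} {par : Fin N → Fin N} {lbl : Fin N → Fin m}
    (R : Real g ev op y i₀ σ) (T : Tree m N i₀ σ par lbl) :
    ∃ x : Fin N → G₁, (∀ i, ev (x i) = y i) ∧ x i₀ = 1 ∧ (∀ k i, g k * x i = x (σ k i)) ∧
      Function.Injective x := by
  have hex : ∀ i, ∃ x, ev x = y i := by
    intro i
    induction hn : i.val using Nat.strong_induction_on generalizing i with
    | _ n ih =>
      by_cases h0 : i = i₀
      · exact ⟨1, h0 ▸ R.one.symm⟩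
      obtain ⟨hlt, he⟩ := T.spec i h0
      obtain ⟨x, hx⟩ := ih _ (hn ▸ hlt) (par i) rfl
      exact ⟨g (lbl i) * x, by rw [R.ev_mul, hx, R.step, he]⟩
  choose x hx using hex
  refine ⟨x, hx, R.ev_inj (by rw [hx, R.one]), fun k i => R.ev_inj ?_, fun i j h => R.inj ?_⟩
  · rw [R.ev_mul, hx, hx, R.step]
  · rw [← hx, ← hx, h]

/-- Two realisations of one table give isomorphic subgroups of order `N`. -/
theorem exists_iso {g₁ : Fin m → G₁} {g₂ : Fin m → G₂} {ev₁ : G₁ → M₁} {ev₂ : G₂ → M₂}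
    {op₁ : M₁ → M₁ → M₁} {op₂ : M₂ → M₂ → M₂} {y₁ : Fin N → M₁} {y₂ : Fin N → M₂} {i₀ : Fin N}
    {σ : Fin m → Fin N → Fin N} {par : Fin N → Fin N} {lbl : Fin N → Fin m}
    (R₁ : Real g₁ ev₁ op₁ y₁ i₀ σ) (R₂ : Real g₂ ev₂ op₂ y₂ i₀ σ) (T : Tree m N i₀ σ par lbl) :
    ∃ (H₁ : Subgroup G₁) (H₂ : Subgroup G₂), Nat.card H₁ = N ∧ Nat.card H₂ = N ∧
      Nonempty (H₁ ≃* H₂) := by
  obtain ⟨x₁, -, h1o, h1s, h1i⟩ := R₁.exists_lift T
  obtain ⟨x₂, -, h2o, h2s, h2i⟩ := R₂.exists_lift T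
  have hmul : ∀ i j, ∃ l, x₁ i * x₁ j = x₁ l ∧ x₂ i * x₂ j = x₂ l := by
    intro i
    induction hn : i.val using Nat.strong_induction_on generalizing i with
    | _ n ih =>
      intro j
      by_cases h0 : i = i₀
      · exact ⟨j, by rw [h0, h1o, one_mul], by rw [h0, h2o, one_mul]⟩
      obtain ⟨hlt, he⟩ := T.spec i h0
      obtain ⟨l, l1, l2⟩ := ih _ (hn ▸ hlt) (par i) rfl j
      refine ⟨σ (lbl i) l, ?_, ?_⟩
      · have e1 : x₁ i = g₁ (lbl i) * x₁ (par i) := by rw [h1s, he]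
        rw [e1, mul_assoc, l1, h1s]
      · have e2 : x₂ i = g₂ (lbl i) * x₂ (par i) := by rw [h2s, he]
        rw [e2, mul_assoc, l2, h2s]
  choose μ hμ1 hμ2 using hmul
  have hinv : ∀ i, ∃ l, μ i l = i₀ := fun i =>
    Finite.surjective_of_injective (f := μ i) (fun a b h => h1i (mul_left_cancel
      ((hμ1 i a).trans ((congrArg x₁ h).trans (hμ1 i b).symm)))) i₀
  let Γ : Subgroup (G₁ × G₂) :=
    { carrier := Set.range fun i => (x₁ i, x₂ i)
      one_mem' := ⟨i₀, by simp [h1o, h2o]⟩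
      mul_mem' := by
        rintro _ _ ⟨i, rfl⟩ ⟨j, rfl⟩
        exact ⟨μ i j, Prod.ext (hμ1 i j).symm (hμ2 i j).symm⟩
      inv_mem' := by
        rintro _ ⟨i, rfl⟩
        obtain ⟨l, hl⟩ := hinv i
        refine ⟨l, Prod.ext ?_ ?_⟩
        · exact eq_inv_of_mul_eq_one_right (by rw [hμ1, hl, h1o])
        · exact eq_inv_of_mul_eq_one_right (by rw [hμ2, hl, h2o]) }
  have hcard : Nat.card Γ = N := by
    show Nat.card (Set.range fun i => (x₁ i, x₂ i)) = N
    rw [Nat.card_range_of_injective (fun a b h => h1i (congrArg Prod.fst h)), Nat.card_fin]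
  let f₁ : Γ →* G₁ := (MonoidHom.fst G₁ G₂).comp Γ.subtype
  let f₂ : Γ →* G₂ := (MonoidHom.snd G₁ G₂).comp Γ.subtype
  have hf₁ : Function.Injective f₁ := by
    rintro ⟨_, i, rfl⟩ ⟨_, j, rfl⟩ h
    have hij : i = j := h1i h
    subst hij
    rfl
  have hf₂ : Function.Injective f₂ := by
    rintro ⟨_, i, rfl⟩ ⟨_, j, rfl⟩ h
    have hij : i = j := h2i h
    subst hij
    rfl
  refine ⟨f₁.range, f₂.range, ?_, ?_,
    ⟨(MonoidHom.ofInjective hf₁).symm.trans (MonoidHom.ofInjective hf₂)⟩⟩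
  · rw [← Nat.card_congr (MonoidHom.ofInjective hf₁).toEquiv, hcard]
  · rw [← Nat.card_congr (MonoidHom.ofInjective hf₂).toEquiv, hcard]

/-- Isomorphic subgroups of full two-power order give isomorphic Sylow subgroups. -/
theorem sylow_iso {p : ℕ} [Fact p.Prime] {H₁ : Subgroup G₁} {H₂ : Subgroup G₂}
    (h₁ : Nat.card H₁ = p ^ (Nat.card G₁).factorization p)
    (h₂ : Nat.card H₂ = p ^ (Nat.card G₂).factorization p) (e : H₁ ≃* H₂) (P : Sylow p G₁)
    (Q : Sylow p G₂) : Nonempty (↥(P : Subgroup G₁) ≃* ↥(Q : Subgroup G₂)) :=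
  ⟨(Sylow.equiv P (Sylow.ofCard H₁ h₁)).trans (e.trans (Sylow.equiv (Sylow.ofCard H₂ h₂) Q))⟩

end Cfsg.Agent.Lib.LAEven56.SylowIso
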