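/-
The four realisations.
-/
import Mathlib
import Cfsg.Prelude.Def_Classical
import Cfsg.Agent.Lib.Symplectic.Std
import Cfsg.Agent.Lib.OrthStd.Models
import Cfsg.Agent.Lib.LAEven56.SylowIso.Table
import Cfsg.Agent.Lib.LAEven56.SylowIso.Data

set_option autoImplicit false
set_option linter.style.haveILetI false
set_option maxRecDepth 10000

namespace Cfsg.Agent.Lib.LAEven56.SylowIso

open Matrix

/-- Decoding a permutation. -/
def perm8 (c : ℕ) (v : Fin 8) : Fin 8 := ⟨c / 8 ^ (v : ℕ) % 8, Nat.mod_lt _ (by norm_num)⟩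

/-- Coordinates of the orthogonal space. -/
abbrev I6 := (Fin 2 ⊕ Fin 2) ⊕ Fin 2

/-- Coordinates of the symplectic space. -/
abbrev I4 := Fin 2 ⊕ Fin 2

/-- Position of a coordinate. -/
def pos4 : I4 → ℕ
  | Sum.inl i => i
  | Sum.inr i => 2 + i

/-- Position of a coordinate. -/
def pos6 : I6 → ℕ
  | Sum.inl i => pos4 i
  | Sum.inr j => 4 + j

/-- Decoding a binary matrix. -/
def mat6 (c : ℕ) : Matrix I6 I6 (ZMod 2) :=
  Matrix.of fun i j => if Nat.testBit c (6 * pos6 i + pos6 j) then 1 else 0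

/-- Decoding a ternary matrix. -/
def mat4 (c : ℕ) : Matrix I4 I4 (ZMod 3) :=
  Matrix.of fun i j => ((c / 3 ^ (4 * pos4 i + pos4 j) % 3 : ℕ) : ZMod 3)

/-- The permutation with index `i`. -/
def P128 (i : Fin 128) : Fin 8 → Fin 8 := perm8 (permList128.getD i 0)
/-- The binary matrix with index `i`. -/
def Y128 (i : Fin 128) : Matrix I6 I6 (ZMod 2) := mat6 (matList128.getD i 0)
/-- The table. -/
def step128 (k : Fin 3) (i : Fin 128) : Fin 128 :=
  ⟨(stepList128.getD k []).getD i 0 % 128, Nat.mod_lt _ (by norm_num)⟩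
/-- The parent. -/
def par128 (i : Fin 128) : Fin 128 :=
  ⟨(treeList128.getD i (0, 0)).2 % 128, Nat.mod_lt _ (by norm_num)⟩
/-- The label. -/
def lbl128 (i : Fin 128) : Fin 3 :=
  ⟨(treeList128.getD i (0, 0)).1 % 3, Nat.mod_lt _ (by norm_num)⟩

/-- The permutation with index `i`. -/
def P64 (i : Fin 64) : Fin 8 → Fin 8 := perm8 (permList64.getD i 0)
/-- The ternary matrix with index `i`. -/
def Y64 (i : Fin 64) : Matrix I4 I4 (ZMod 3) := mat4 (matList64.getD i 0)
/-- The table. -/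
def step64 (k : Fin 3) (i : Fin 64) : Fin 64 :=
  ⟨(stepList64.getD k []).getD i 0 % 64, Nat.mod_lt _ (by norm_num)⟩
/-- The parent. -/
def par64 (i : Fin 64) : Fin 64 :=
  ⟨(treeList64.getD i (0, 0)).2 % 64, Nat.mod_lt _ (by norm_num)⟩
/-- The label. -/
def lbl64 (i : Fin 64) : Fin 3 :=
  ⟨(treeList64.getD i (0, 0)).1 % 3, Nat.mod_lt _ (by norm_num)⟩

theorem tree128 : Tree 3 128 0 step128 par128 lbl128 := ⟨by decide +kernel⟩
theorem tree64 : Tree 3 64 0 step64 par64 lbl64 := ⟨by decide +kernel⟩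

/-- Generators of the Sylow subgroup of `S₈`. -/
def gS8 : Fin 3 → Equiv.Perm (Fin 8) :=
  ![Equiv.swap 0 1, Equiv.swap 0 2 * Equiv.swap 1 3,
    Equiv.swap 0 4 * Equiv.swap 1 5 * Equiv.swap 2 6 * Equiv.swap 3 7]

/-- Generators of the Sylow subgroup of `A₈`. -/
def gA8 : Fin 3 → alternatingGroup (Fin 8) :=
  ![⟨Equiv.swap 0 1 * Equiv.swap 4 5, Equiv.Perm.mem_alternatingGroup.2 (by decide +kernel)⟩,
    ⟨Equiv.swap 0 2 * Equiv.swap 1 3, Equiv.Perm.mem_alternatingGroup.2 (by decide +kernel)⟩,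
    ⟨Equiv.swap 0 4 * Equiv.swap 1 5 * Equiv.swap 2 6 * Equiv.swap 3 7,
      Equiv.Perm.mem_alternatingGroup.2 (by decide +kernel)⟩]

theorem real_s8 : Real gS8 (fun g => (⇑g : Fin 8 → Fin 8)) (· ∘ ·) P128 0 step128 where
  ev_inj := DFunLike.coe_injective
  ev_mul a b := Equiv.Perm.coe_mul a b
  one := funext (by decide +kernel : ∀ v, P128 0 v = v)
  step k i := funext ((by decide +kernel : ∀ k i v, gS8 k (P128 i v) = P128 (step128 k i) v) k i)
  inj := fun i j h => (by decide +kernel : ∀ i j : Fin 128, (∀ v, P128 i v = P128 j v) → i = j) i j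
    (congrFun h)

theorem real_a8 : Real gA8 (fun g => (⇑(g : Equiv.Perm (Fin 8)) : Fin 8 → Fin 8)) (· ∘ ·) P64 0
    step64 where
  ev_inj a b h := Subtype.ext (DFunLike.coe_injective h)
  ev_mul a b := Equiv.Perm.coe_mul (a : Equiv.Perm (Fin 8)) b
  one := funext (by decide +kernel : ∀ v, P64 0 v = v)
  step k i := funext
    ((by decide +kernel : ∀ k i v, (gA8 k : Equiv.Perm (Fin 8)) (P64 i v) = P64 (step64 k i) v) k i)
  inj := fun i j h => (by decide +kernel : ∀ i j : Fin 64, (∀ v, P64 i v = P64 j v) → i = j) i j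
    (congrFun h)

theorem Y128_zero : Y128 0 = 1 := by decide +kernel

theorem Y128_step : ∀ k i, Y128 (step128 k 0) * Y128 i = Y128 (step128 k i) := by decide +kernel

theorem Y128_inj : ∀ i j : Fin 128, Y128 i = Y128 j → i = j := by decide +kernel

theorem Y128_gen : ∀ k, Y128 (step128 k 0) * Y128 (step128 k 0) = 1 := by decide +kernel

/-- The form over the prime field. -/
def q6 (v : I6 → ZMod 2) : ZMod 2 :=
  v (.inl (.inl 0)) * v (.inl (.inr 0)) + v (.inl (.inl 1)) * v (.inl (.inr 1)) +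
    (v (.inr 0) ^ 2 + v (.inr 0) * v (.inr 1) + v (.inr 1) ^ 2)

theorem Y128_form : ∀ k, ∀ v : I6 → ZMod 2, q6 (Y128 (step128 k 0) *ᵥ v) = q6 v := by decide +kernel

theorem Y64_mem : ∀ i, Y64 i * Matrix.J (Fin 2) (ZMod 3) * (Y64 i)ᵀ = Matrix.J (Fin 2) (ZMod 3) := by
  decide +kernel

theorem Y64_zero : Y64 0 = 1 := by decide +kernel

theorem Y64_step : ∀ k i, Y64 (step64 k 0) * Y64 i = Y64 (step64 k i) ∨
    Y64 (step64 k 0) * Y64 i = -(Y64 (step64 k i)) := by decide +kernel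

theorem Y64_inj : ∀ i j : Fin 64, (Y64 i = Y64 j ∨ Y64 i = -(Y64 j)) → i = j := by decide +kernel

theorem real_psp (F : Type) [Field F] [Fintype F] (φ : ZMod 3 →+* F) :
    ∃ (g : Fin 3 → Cfsg.PSp 2 F) (y : Fin 64 → Cfsg.PSp 2 F),
      Real g id (· * ·) y 0 step64 := by
  let Y : Fin 64 → symplecticGroup (Fin 2) F := fun i =>
    ⟨(Y64 i).map φ, SymplecticGroup.map_mem (SymplecticGroup.mem_iff.2 (Y64_mem i)) φ⟩
  let y : Fin 64 → Cfsg.PSp 2 F := fun i => QuotientGroup.mk (Y i)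
  have hmk : ∀ A B : symplecticGroup (Fin 2) F,
      (QuotientGroup.mk A : Cfsg.PSp 2 F) = QuotientGroup.mk B ↔
        (A : Matrix I4 I4 F) = B ∨ (A : Matrix I4 I4 F) = -(B : Matrix I4 I4 F) := by
    intro A B
    rw [QuotientGroup.eq, Symplectic.mem_center_sp_iff]
    have hB : (B : Matrix I4 I4 F) = (A : Matrix I4 I4 F) * ((A⁻¹ * B : symplecticGroup (Fin 2) F) :
        Matrix I4 I4 F) := by
      rw [← Submonoid.coe_mul, mul_inv_cancel_left]
    have h1 : ((A⁻¹ * A : symplecticGroup (Fin 2) F) : Matrix I4 I4 F) = 1 := by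
      rw [inv_mul_cancel]; rfl
    constructor
    · rintro (h | h) <;> rw [h] at hB
      · left; rw [hB, mul_one]
      · right; rw [hB]; simp
    · rintro (h | h)
      · left
        have hAB : A = B := Subtype.ext h
        rw [← hAB]; exact h1
      · right
        have hB' : (B : Matrix I4 I4 F) = -(A : Matrix I4 I4 F) := by rw [h, neg_neg]
        rw [Submonoid.coe_mul, hB', Matrix.mul_neg, ← Submonoid.coe_mul, h1]
  refine ⟨fun k => y (step64 k 0), y, ⟨fun a b h => h, fun a b => rfl, ?_, fun k i => ?_, ?_⟩⟩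
  · show (QuotientGroup.mk (Y 0) : Cfsg.PSp 2 F) = 1
    have : Y 0 = 1 := Subtype.ext (by simp [Y, Y64_zero])
    rw [this]; rfl
  · show (QuotientGroup.mk (Y (step64 k 0) * Y i) : Cfsg.PSp 2 F) = QuotientGroup.mk (Y (step64 k i))
    rw [hmk]
    rcases Y64_step k i with h | h
    · left
      show (Y64 (step64 k 0)).map φ * (Y64 i).map φ = (Y64 (step64 k i)).map φ
      rw [← Matrix.map_mul, h]
    · right
      show (Y64 (step64 k 0)).map φ * (Y64 i).map φ = -((Y64 (step64 k i)).map φ)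
      rw [← Matrix.map_mul, h]; ext a b; simp
  · intro i j h
    refine Y64_inj i j ?_
    rcases (hmk _ _).1 h with h' | h'
    · exact Or.inl (Matrix.map_injective φ.injective h')
    · refine Or.inr (Matrix.map_injective φ.injective (h'.trans ?_))
      ext a b
      simp [Y]

theorem real_orth (K : Type) [Field K] [Fintype K] (φ : ZMod 2 ≃+* K) :
    ∃ (g : Fin 3 → Cfsg.isometryGroup K (Cfsg.quadFormMinus 2 K (1 : K) 1))
      (y : Fin 128 → Matrix I6 I6 K),
      Real g (fun h => ((h : GL I6 K) : Matrix I6 I6 K)) (· * ·) y 0 step128 := by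
  have hY : ∀ k, (Y128 (step128 k 0)).map φ * (Y128 (step128 k 0)).map φ = 1 := fun k => by
    rw [← Matrix.map_mul, Y128_gen]; simp
  let u : Fin 3 → GL I6 K := fun k => ⟨(Y128 (step128 k 0)).map φ, _, hY k, hY k⟩
  have hmem : ∀ k, u k ∈ Cfsg.isometryGroup K (Cfsg.quadFormMinus 2 K (1 : K) 1) := by
    intro k v w
    show Cfsg.quadFormMinus 2 K 1 1 ((Y128 (step128 k 0)).map φ *ᵥ v) = Cfsg.quadFormMinus 2 K 1 1 v
    obtain ⟨v₀, rfl⟩ : ∃ v₀ : I6 → ZMod 2, (φ : ZMod 2 →+* K) ∘ v₀ = v :=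
      ⟨φ.symm ∘ v, funext fun i => φ.apply_symm_apply _⟩
    have hq : ∀ z : I6 → ZMod 2, Cfsg.quadFormMinus 2 K 1 1 ((φ : ZMod 2 →+* K) ∘ z) = φ (q6 z) := by
      intro z
      simp only [Cfsg.quadFormMinus, q6, Fin.sum_univ_two, Function.comp_apply, map_add, map_mul,
        map_pow, one_mul]
      rfl
    have hmv : (Y128 (step128 k 0)).map φ *ᵥ ((φ : ZMod 2 →+* K) ∘ v₀) =
        (φ : ZMod 2 →+* K) ∘ (Y128 (step128 k 0) *ᵥ v₀) := by
      funext i
      exact (RingHom.map_mulVec (φ : ZMod 2 →+* K) (Y128 (step128 k 0)) v₀ i).symm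
    rw [hmv, hq, hq, Y128_form]
  refine ⟨fun k => ⟨u k, hmem k⟩, fun i => (Y128 i).map φ, ⟨?_, fun a b => rfl, ?_, fun k i => ?_, ?_⟩⟩
  · intro a b h
    exact Subtype.ext (Units.ext h)
  · show (Y128 0).map φ = 1
    rw [Y128_zero]; simp
  · show (Y128 (step128 k 0)).map φ * (Y128 i).map φ = (Y128 (step128 k i)).map φ
    rw [← Matrix.map_mul, Y128_step]
  · intro i j h
    exact Y128_inj i j (Matrix.map_injective φ.injective h)

/-- The statement. -/
theorem sylow_isos (F : Type) [Field F] [Fintype F] (hF : Fintype.card F = 3) (K : Type) [Field K]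
    [Fintype K] (hK : Fintype.card K = 2) (a b : K)
    (hab : ∀ z₁ z₂ : K, z₁ ^ 2 + a * z₁ * z₂ + b * z₂ ^ 2 = 0 → z₁ = 0 ∧ z₂ = 0)
    (P : Sylow 2 ↥(alternatingGroup (Fin 8))) (Q : Sylow 2 (Cfsg.PSp 2 F))
    (P' : Sylow 2 (Equiv.Perm (Fin 8)))
    (Q' : Sylow 2 ↥(Cfsg.isometryGroup K (Cfsg.quadFormMinus 2 K a b))) :
    Nonempty (↥(P : Subgroup ↥(alternatingGroup (Fin 8))) ≃* ↥(Q : Subgroup (Cfsg.PSp 2 F))) ∧
      Nonempty (↥(P' : Subgroup (Equiv.Perm (Fin 8))) ≃*
        ↥(Q' : Subgroup ↥(Cfsg.isometryGroup K (Cfsg.quadFormMinus 2 K a b)))) := by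
  haveI : Fact (Nat.Prime 2) := ⟨Nat.prime_two⟩
  haveI : Fact (Nat.Prime 3) := ⟨Nat.prime_three⟩
  have hv : ∀ n v m, n = 2 ^ v * m → ¬ 2 ∣ m → n.factorization 2 = v := fun n v m h hm => by
    have hm0 : m ≠ 0 := by rintro rfl; exact hm (dvd_zero 2)
    rw [h, Nat.factorization_mul (pow_ne_zero _ two_ne_zero) hm0, Finsupp.add_apply,
      Nat.Prime.factorization_pow Nat.prime_two, Finsupp.single_eq_same,
      Nat.factorization_eq_zero_of_not_dvd hm, add_zero]
  constructor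
  · have φ : ZMod 3 ≃+* F := ZMod.ringEquivOfPrime F Nat.prime_three hF
    obtain ⟨g, y, R⟩ := real_psp F (φ : ZMod 3 →+* F)
    obtain ⟨H₁, H₂, c₁, c₂, ⟨e⟩⟩ := exists_iso real_a8 R tree64
    refine sylow_iso ?_ ?_ e P Q
    · have hA : Nat.card (alternatingGroup (Fin 8)) = 20160 := by
        have := two_mul_nat_card_alternatingGroup (α := Fin 8)
        rw [Nat.card_perm, Nat.card_fin, show Nat.factorial 8 = 40320 from rfl] at this
        linarith
      rw [c₁, hv _ 6 315 hA (by norm_num)]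
      norm_num
    · have h := Symplectic.card_psp (F := F) (q := 3) (by rw [Nat.card_eq_fintype_card, hF])
        (m := 2) (by norm_num)
      norm_num [Finset.prod_range_succ, Finset.prod_range_zero] at h
      rw [c₂, hv _ 6 405 (by omega) (by norm_num)]
      norm_num
  · have φ : ZMod 2 ≃+* K := ZMod.ringEquivOfPrime K Nat.prime_two hK
    have hK2 : ∀ x : K, x = 0 ∨ x = 1 := fun x => by
      obtain ⟨w, rfl⟩ := φ.surjective x
      rcases (show ∀ w : ZMod 2, w = 0 ∨ w = 1 by decide +revert) w with rfl | rfl <;> simp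
    have h2 : (1 : K) + 1 = 0 := by
      rw [← map_one φ, ← map_add, show (1 : ZMod 2) + 1 = 0 from rfl, map_zero]
    obtain rfl : b = 1 := (hK2 b).resolve_left fun h => one_ne_zero (hab 0 1 (by simp [h])).2
    obtain rfl : a = 1 := (hK2 a).resolve_left fun h => one_ne_zero (hab 1 1 (by simp [h, h2])).1
    obtain ⟨g, y, R⟩ := real_orth K φ
    obtain ⟨H₁, H₂, c₁, c₂, ⟨e⟩⟩ := exists_iso real_s8 R tree128
    refine sylow_iso ?_ ?_ e P' Q'
    · rw [c₁, hv _ 7 315 (by rw [Nat.card_perm, Nat.card_fin]; rfl) (by norm_num)]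
      norm_num
    · have h := OrthStd.card_orth_minus (F := K) hK 3 (by norm_num) hab
      norm_num [Finset.prod_range_succ, Finset.prod_range_zero] at h
      rw [c₂, hv _ 7 405 h (by norm_num)]
      norm_num

end Cfsg.Agent.Lib.LAEven56.SylowIso
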